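import Cfsg.Agent.RuLat.Main
import Cfsg.Agent.H217.Odm.Real_m3
import Cfsg.Agent.Prune
set_option linter.all false
prune_inst 0x7f00000000000000000000000000000000000000000000000000000000000000000000000000000000000000000000000000000000000000000000000000000000000000000000000000000000000000003fffffffffffffffffffffffffffbeffbdffffffff
open scoped Cfsg.Agent.FastGrp

/-!
# The Rudvalis lattice modulo `1 + i` (helper257)

`no377` : `Ru` has no element of order `13 · 29`.
-/

set_option autoImplicit false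

namespace Cfsg.Agent.H257.El.RuMod

open Cfsg.Spor Cfsg.Agent.RuLat
open Cfsg.Agent.H361.SelfCent (card_modEq_of_perm)

/-- multiplication by `1 + i` -/
def P : AddMonoid.End ruLattice :=
  { toFun := fun v => v + ruI v
    map_zero' := by
      apply Subtype.ext
      simp only [ruI, _root_.ZeroMemClass.coe_zero, _root_.smul_zero, _root_.zero_add]
    map_add' := fun v w => by
      apply Subtype.ext
      simp only [ruI, AddSubgroup.coe_add, smul_add]
      abel }

theorem End.mul_apply (a b : AddMonoid.End ruLattice) (v : ruLattice) : (a * b) v = a (b v) := rfl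

theorem P_apply (v : ruLattice) : P v = v + ruI v := rfl

theorem norm_P (v : ruLattice) : ruNorm ((P v : ruLattice) : RuVec) = 2 * ruNorm (v : RuVec) := by
  rw [P_apply, AddSubgroup.coe_add, ruNorm_add, coe_ruI, ruNorm_gI_smul, herm_smul_right, herm_self, star_gI]
  have h1 : (-gI * ((ruNorm (v : RuVec) : ℤ) : GaussianInt)).re = 0 := by
    rw [neg_mul, Zsqrtd.re_neg, gI_mul_re, intCast_im]
    simp
  rw [h1]
  ring

theorem norm_P_pow (k : ℕ) (v : ruLattice) : ruNorm (((P ^ k) v : ruLattice) : RuVec) = 2 ^ k * ruNorm (v : RuVec) := by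
  induction k with
  | zero => simp only [_root_.pow_zero, _root_.AddMonoid.End.coe_one, _root_.id_eq, _root_.one_mul]
  | succ k ih =>
    rw [pow_succ', End.mul_apply, norm_P, ih]
    ring

theorem P_injective : Function.Injective P := by
  rw [injective_iff_map_eq_zero]
  intro v hv
  have h := norm_P v
  rw [hv] at h
  have h2 : ruNorm (v : RuVec) = 0 := by
    rw [AddSubgroup.coe_zero, ruNorm_zero] at h
    linarith
  exact Subtype.ext (eq_zero_of_ruNorm h2)

theorem P_pow_injective (k : ℕ) : Function.Injective (P ^ k) := by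
  induction k with
  | zero => exact fun a b h => h
  | succ k ih =>
    intro a b h
    rw [pow_succ', End.mul_apply, End.mul_apply] at h
    exact ih (P_injective h)

/-- `2 = - i (1 + i) ^ 2` -/
theorem two_mem (w : ruLattice) : ∃ u : ruLattice, w + w = P u := by
  refine ⟨w - ruI w, ?_⟩
  apply Subtype.ext
  rw [P_apply]
  have h1 : gI • (gI • (w : RuVec)) = -(w : RuVec) := by
    rw [smul_smul, gI_mul_self, neg_one_smul]
  simp only [ruI, AddSubgroup.coe_add, AddSubgroup.coe_sub, smul_sub, h1]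
  abel

variable {f : Equiv.Perm ruLattice}

theorem four_P (hf : f ∈ fourRu) (v : ruLattice) : f (P v) = P (f v) := by
  rw [P_apply, P_apply, four_add hf, four_I hf]

theorem four_P_pow (hf : f ∈ fourRu) (k : ℕ) (v : ruLattice) : f ((P ^ k) v) = (P ^ k) (f v) := by
  induction k with
  | zero => rfl
  | succ k ih => rw [pow_succ', End.mul_apply, End.mul_apply, four_P hf, ih]

theorem four_sub (hf : f ∈ fourRu) (v w : ruLattice) : f (v - w) = f v - f w := by
  rw [sub_eq_add_neg, four_add hf, four_neg hf, ← sub_eq_add_neg]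

theorem four_finsum (hf : f ∈ fourRu) (n : ℕ) (g : ℕ → ruLattice) :
    f (∑ i ∈ Finset.range n, g i) = ∑ i ∈ Finset.range n, f (g i) := by
  induction n with
  | zero => simp [four_zero hf]
  | succ n ih => rw [Finset.sum_range_succ, Finset.sum_range_succ, four_add hf, ih]

/-- an element of odd order of `fourRu` which is trivial modulo `1 + i` is trivial -/
theorem eq_one_of_mod (hf : f ∈ fourRu) {p : ℕ} (hp : Odd p) (hfp : f ^ p = 1)
    (h : ∀ v, ∃ w, f v - v = P w) : f = 1 := by
  have key : ∀ k : ℕ, ∀ v, ∃ w, f v - v = (P ^ (k + 1)) w := by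
    intro k
    induction k with
    | zero => intro v; simpa only [_root_.zero_add, _root_.pow_one, _root_.Subtype.exists] using h v
    | succ k ih =>
      -- the powers of `f`
      have h1 : ∀ i : ℕ, ∀ v, ∃ w, (f ^ i) v - v = (P ^ (k + 1)) w := by
        intro i
        induction i with
        | zero => intro v; exact ⟨0, by simp only [_root_.pow_zero, _root_.Equiv.Perm.coe_one, _root_.id_eq, _root_.sub_self, _root_.AddMonoid.End.coe_pow, _root_.iterate_map_zero]⟩
        | succ i ihi =>
          intro v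
          obtain ⟨w, hw⟩ := ihi v
          obtain ⟨u, hu⟩ := ih ((f ^ i) v)
          refine ⟨u + w, ?_⟩
          rw [map_add, ← hu, ← hw, pow_succ', Equiv.Perm.mul_apply]
          abel
      intro v
      set s := ∑ i ∈ Finset.range p, (f ^ i) v with hs
      have h2 : f s = s := by
        have h3 : f s = ∑ i ∈ Finset.range p, (f ^ (i + 1)) v := by
          rw [hs, four_finsum hf]
          refine Finset.sum_congr rfl fun i _ => ?_
          rw [pow_succ', Equiv.Perm.mul_apply]
        have h4 := Finset.sum_range_succ (fun i => (f ^ i) v) p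
        have h5 := Finset.sum_range_succ' (fun i => (f ^ i) v) p
        rw [h4, ← h3, hfp] at h5
        simp only [pow_zero] at h5
        exact (add_right_cancel h5).symm
      have h3 : ∃ u, s - p • v = (P ^ (k + 1)) u := by
        have h4 : s - p • v = ∑ i ∈ Finset.range p, ((f ^ i) v - v) := by
          rw [Finset.sum_sub_distrib, Finset.sum_const, Finset.card_range]
        rw [h4]
        choose w hw using fun i => h1 i v
        refine ⟨∑ i ∈ Finset.range p, w i, ?_⟩
        rw [map_sum]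
        exact Finset.sum_congr rfl fun i _ => hw i
      obtain ⟨u, hu⟩ := h3
      obtain ⟨w, hw⟩ := ih v
      obtain ⟨u', hu'⟩ := h u
      -- apply `f - 1`
      have h4 : p • (f v - v) = -((P ^ (k + 1)) (P u')) := by
        have h5 : f (s - p • v) - (s - p • v) = (P ^ (k + 1)) (f u - u) := by
          rw [hu, four_P_pow hf, map_sub]
        have h6 : f (p • v) = p • f v := map_nsmul (fourHom hf) p v
        rw [four_sub hf, h2, h6, hu'] at h5
        rw [← h5, smul_sub]
        abel
      rw [hw, ← map_nsmul, ← map_neg] at h4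
      have h5 : p • w = -P u' := P_pow_injective (k + 1) h4
      obtain ⟨m, hm⟩ := hp
      obtain ⟨u'', hu''⟩ := two_mem (m • w)
      have h6 : w = P (-u' - u'') := by
        have h7 : p • w = m • w + m • w + w := by
          rw [hm, add_smul, one_smul, two_mul, add_smul]
        rw [map_sub, map_neg, ← h5, h7, ← hu'']
        abel
      refine ⟨-u' - u'', ?_⟩
      rw [hw]
      conv_lhs => rw [h6]
      rw [pow_succ P (k + 1), End.mul_apply]
  apply Equiv.ext
  intro v
  by_contra hne
  have h1 : f v - v ≠ 0 := sub_ne_zero.2 hne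
  have h2 : 0 < ruNorm ((f v - v : ruLattice) : RuVec) := by
    rcases (ruNorm_nonneg ((f v - v : ruLattice) : RuVec)).lt_or_eq with h3 | h3
    · exact h3
    · exact absurd (Subtype.ext (eq_zero_of_ruNorm h3.symm)) h1
  obtain ⟨n, hn⟩ : ∃ n : ℕ, ruNorm ((f v - v : ruLattice) : RuVec) = n := ⟨_, (Int.toNat_of_nonneg h2.le).symm⟩
  obtain ⟨w, hw⟩ := key n v
  have h3 := norm_P_pow (n + 1) w
  rw [← hw, hn] at h3
  have h4 : 0 < ruNorm (w : RuVec) := by
    rw [hn] at h2
    by_contra hc
    have h5 : ruNorm (w : RuVec) = 0 := le_antisymm (not_lt.1 hc) (ruNorm_nonneg _)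
    rw [h5, mul_zero] at h3
    omega
  have h5 : (2 : ℤ) ^ (n + 1) ≤ n := by
    rw [h3]
    nlinarith only [h3, h4]
  have h6 : n < 2 ^ n := Nat.lt_two_pow_self
  have h7 : (n : ℤ) < 2 ^ n := by exact_mod_cast h6
  rw [pow_succ] at h5
  omega

/-! ### counting -/

section Count

variable {A : Type*} [CommGroup A] [Finite A]

/-- the fixed points of an automorphism -/
def fixA (b : MulAut A) : Subgroup A where
  carrier := {v | b v = v}
  one_mem' := map_one b
  mul_mem' {v w} hv hw := by
    change b (v * w) = v * w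
    rw [map_mul, show b v = v from hv, show b w = w from hw]
  inv_mem' {v} hv := by
    change b v⁻¹ = v⁻¹
    rw [map_inv, show b v = v from hv]

theorem exists_card (hA : ∀ a : A, a * a = 1) (B : Subgroup A) : ∃ k : ℕ, Nat.card B = 2 ^ k := by
  have : Fact (Nat.Prime 2) := ⟨Nat.prime_two⟩
  have h1 : IsPGroup 2 B := by
    intro g
    refine ⟨1, ?_⟩
    rw [pow_one, pow_two]
    exact Subtype.ext (hA g)
  obtain ⟨k, hk⟩ := IsPGroup.iff_card.1 h1
  exact ⟨k, hk⟩

theorem card_fix_modEq {p : ℕ} (hp : p.Prime) (a : MulAut A) (ha : a ^ p = 1) (B : Subgroup A)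
    (hB : ∀ v ∈ B, a v ∈ B) : Nat.card B ≡ Nat.card (B ⊓ fixA a : Subgroup A) [MOD p] := by
  have hpow : ∀ n : ℕ, ∀ v ∈ B, (a ^ n) v ∈ B := by
    intro n
    induction n with
    | zero => intro v hv; exact hv
    | succ n ih =>
      intro v hv
      rw [pow_succ']
      exact hB _ (ih v hv)
  have hinv : ∀ v ∈ B, a⁻¹ v ∈ B := by
    intro v hv
    have h1 : a⁻¹ = a ^ (p - 1) := by
      rw [eq_comm, ← mul_eq_one_iff_eq_inv, ← pow_succ, Nat.sub_add_cancel hp.one_lt.le, ha]
    rw [h1]
    exact hpow _ v hv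
  let f : Equiv.Perm B :=
    { toFun := fun v => ⟨a v, hB v v.2⟩
      invFun := fun v => ⟨a⁻¹ v, hinv v v.2⟩
      left_inv := fun v => Subtype.ext (MulAut.inv_apply_self A a v)
      right_inv := fun v => Subtype.ext (MulAut.apply_inv_self A a v) }
  have hfk : ∀ k : ℕ, ∀ w : B, (((f ^ k) w : B) : A) = (a ^ k) (w : A) := by
    intro k
    induction k with
    | zero => intro w; rfl
    | succ k ih =>
      intro w
      rw [pow_succ', Equiv.Perm.mul_apply, pow_succ']
      change a ((f ^ k) w : B) = a ((a ^ k) (w : A))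
      rw [ih]
  have hf : f ^ p = 1 := by
    ext w
    rw [hfk, ha]
    rfl
  refine (card_modEq_of_perm hp f hf).trans ?_
  refine congrArg (· % p) (Nat.card_congr ?_)
  exact
    { toFun := fun v => ⟨(v.1 : A), v.1.2, congrArg Subtype.val v.2⟩
      invFun := fun v => ⟨⟨v.1, v.2.1⟩, Subtype.ext v.2.2⟩
      left_inv := fun v => rfl
      right_inv := fun v => rfl }

/-- no commuting automorphisms of orders 29 and 13 of an elementary abelian group of order at most `2 ^ 28` -/
theorem key (hA : ∀ a : A, a * a = 1) (hc : Nat.card A ≤ 2 ^ 28) {a b : MulAut A} (hab : a * b = b * a)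
    (ha : a ^ 29 = 1) (ha1 : a ≠ 1) (hb : b ^ 13 = 1) (hb1 : b ≠ 1) : False := by
  obtain ⟨k, hk⟩ := exists_card hA (⊤ : Subgroup A)
  obtain ⟨i, hi⟩ := exists_card hA (fixA a)
  obtain ⟨j, hj⟩ := exists_card hA (fixA b)
  obtain ⟨m, hm⟩ := exists_card hA (fixA b ⊓ fixA a)
  have e1 := card_fix_modEq (by norm_num) a ha ⊤ (fun _ _ => trivial)
  have e2 := card_fix_modEq (by norm_num) a ha (fixA b) (fun v hv => by
    change b (a v) = a v
    have h1 : (a * b) v = (b * a) v := by rw [hab]
    change a (b v) = b (a v) at h1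
    rw [← h1, show b v = v from hv])
  have e3 := card_fix_modEq (by norm_num) b hb ⊤ (fun _ _ => trivial)
  rw [top_inf_eq] at e1 e3
  rw [hk, hi] at e1
  rw [hj, hm] at e2
  rw [hk, hj] at e3
  have hne : ∀ c : MulAut A, c ≠ 1 → Nat.card (fixA c) < Nat.card (⊤ : Subgroup A) := by
    intro c hc1
    refine lt_of_le_of_ne (Subgroup.card_le_of_le le_top) fun h => hc1 ?_
    have h1 : fixA c = ⊤ := Subgroup.eq_of_le_of_card_ge le_top h.ge
    ext v
    have h2 : v ∈ fixA c := by rw [h1]; trivial
    exact h2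
  have h1 := hne a ha1
  have h2 := hne b hb1
  have h3 : Nat.card (fixA b ⊓ fixA a : Subgroup A) ≤ Nat.card (fixA a) := Subgroup.card_le_of_le inf_le_right
  have h4 : Nat.card (⊤ : Subgroup A) ≤ 2 ^ 28 := by
    rw [Subgroup.card_top]
    exact hc
  rw [hi, hk] at h1
  rw [hj, hk] at h2
  rw [hm, hi] at h3
  rw [hk] at h4
  have h1' := (Nat.pow_lt_pow_iff_right (by norm_num : 1 < 2)).1 h1
  have h2' := (Nat.pow_lt_pow_iff_right (by norm_num : 1 < 2)).1 h2
  have h3' := (Nat.pow_le_pow_iff_right (by norm_num : 1 < 2)).1 h3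
  have h4' := (Nat.pow_le_pow_iff_right (by norm_num : 1 < 2)).1 h4
  have hd : ∀ k < 29, ∀ i < k, 2 ^ k % 29 = 2 ^ i % 29 → k = 28 ∧ i = 0 := by decide +kernel
  obtain ⟨rfl, rfl⟩ := hd k (by omega) i h1' e1
  have hm0 : m = 0 := by omega
  subst hm0
  have hd2 : ∀ j < 28, 2 ^ j % 29 = 2 ^ 0 % 29 → j = 0 := by decide +kernel
  have hj0 := hd2 j h2' e2
  subst hj0
  have h5 : ¬ 2 ^ 28 % 13 = 2 ^ 0 % 13 := by norm_num
  exact h5 e3

end Count

/-! ### the action on the quotient -/

/-- the multiples of `1 + i` -/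
def I : AddSubgroup ruLattice := AddMonoidHom.range (P : ruLattice →+ ruLattice)

theorem mem_I {v : ruLattice} : v ∈ I ↔ ∃ w, P w = v := Iff.rfl

/-- elements of `fourRu` as additive automorphisms -/
def fe (f : fourRu) : ruLattice ≃+ ruLattice := { f.1 with map_add' := four_add f.2 }

theorem map_I (f : fourRu) : I.map (fe f : ruLattice →+ ruLattice) = I := by
  apply le_antisymm
  · rintro _ ⟨v, hv, rfl⟩
    obtain ⟨w, rfl⟩ := mem_I.1 hv
    exact mem_I.2 ⟨f.1 w, (four_P f.2 w).symm⟩
  · intro v hv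
    obtain ⟨w, rfl⟩ := mem_I.1 hv
    refine ⟨P ((f⁻¹ : fourRu).1 w), mem_I.2 ⟨_, rfl⟩, ?_⟩
    change f.1 (P ((f⁻¹ : fourRu).1 w)) = P w
    rw [four_P f.2]
    congr 1
    exact Equiv.apply_symm_apply f.1 w

/-- the quotient modulo `1 + i`, multiplicatively -/
abbrev A : Type := Multiplicative (ruLattice ⧸ I)

/-- the class of a vector -/
def cls (v : ruLattice) : A := Multiplicative.ofAdd (v : ruLattice ⧸ I)

theorem cls_surjective : Function.Surjective cls := by
  intro a
  obtain ⟨v, hv⟩ := QuotientAddGroup.mk_surjective (Multiplicative.toAdd a)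
  exact ⟨v, congrArg Multiplicative.ofAdd hv⟩

/-- the representation modulo `1 + i` -/
noncomputable def rho : fourRu →* MulAut A :=
  MonoidHom.mk' (fun f => AddEquiv.toMultiplicative (QuotientAddGroup.congr I I (fe f) (map_I f))) (by
    intro f g
    ext x
    obtain ⟨v, rfl⟩ := cls_surjective x
    rfl)

theorem rho_cls (f : fourRu) (v : ruLattice) : rho f (cls v) = cls (f.1 v) := rfl

theorem rho_ne_one {f : fourRu} {p : ℕ} (hp : Odd p) (hf : f ^ p = 1) (hf1 : f ≠ 1) : rho f ≠ 1 := by
  intro h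
  apply hf1
  apply Subtype.ext
  refine eq_one_of_mod f.2 hp (congrArg Subtype.val hf) fun v => ?_
  have h1 : rho f (cls v) = cls v := by rw [h]; rfl
  rw [rho_cls] at h1
  have h2 := QuotientAddGroup.eq.1 (congrArg Multiplicative.toAdd h1.symm)
  obtain ⟨w, hw⟩ := mem_I.1 h2
  exact ⟨w, by rw [hw]; abel⟩

theorem two_quot (a : A) : a * a = 1 := by
  obtain ⟨v, rfl⟩ := cls_surjective a
  obtain ⟨u, hu⟩ := two_mem v
  exact congrArg Multiplicative.ofAdd ((QuotientAddGroup.eq_zero_iff _).2 (mem_I.2 ⟨u, hu.symm⟩))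

/-- Gaussian integers modulo `1 + i` -/
theorem gauss_mod (c : GaussianInt) : ∃ (b : Bool) (d : GaussianInt), c = (if b then 1 else 0) + (1 + gI) * d := by
  -- `c = x + y i`
  have key : ∀ x y : ℤ, (x + y) % 2 = 0 → (⟨x, y⟩ : GaussianInt) = (1 + gI) * ⟨(x + y) / 2, (y - x) / 2⟩ := by
    intro x y h
    apply Zsqrtd.ext
    · simp only [gI, Zsqrtd.re_mul, Zsqrtd.re_add, Zsqrtd.im_add, Zsqrtd.re_one, Zsqrtd.im_one]
      omega
    · simp only [gI, Zsqrtd.im_mul, Zsqrtd.re_add, Zsqrtd.im_add, Zsqrtd.re_one, Zsqrtd.im_one]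
      omega
  obtain ⟨x, y⟩ := c
  by_cases h : (x + y) % 2 = 0
  · exact ⟨false, ⟨(x + y) / 2, (y - x) / 2⟩, by rw [← key x y h]; simp⟩
  · refine ⟨true, ⟨(x - 1 + y) / 2, (y - (x - 1)) / 2⟩, ?_⟩
    have h1 := key (x - 1) y (by omega)
    rw [← h1]
    apply Zsqrtd.ext <;> simp

/-- the vector of a family of bits -/
def bv (c : Fin 28 → Bool) : ruLattice :=
  ⟨∑ j, (if c j then (1 : GaussianInt) else 0) • RuLat.vec (bl j), sum_mem' _ _ _ fun j => Main.hyp.mem (bl j)⟩

theorem bv_surjective : Function.Surjective fun c : Fin 28 → Bool => cls (bv c) := by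
  intro a
  obtain ⟨x, rfl⟩ := cls_surjective a
  obtain ⟨c, hc⟩ := Prep.span_bl.span x x.2
  choose b d hbd using fun j => gauss_mod (c j)
  refine ⟨b, ?_⟩
  have hy : (∑ j, d j • RuLat.vec (bl j)) ∈ ruLattice := sum_mem' _ _ _ fun j => Main.hyp.mem (bl j)
  have h1 : x - bv b = P ⟨_, hy⟩ := by
    apply Subtype.ext
    rw [P_apply, AddSubgroup.coe_sub, AddSubgroup.coe_add, coe_ruI, hc]
    change (∑ j, c j • RuLat.vec (bl j)) - (∑ j, (if b j then (1 : GaussianInt) else 0) • RuLat.vec (bl j)) =
      (∑ j, d j • RuLat.vec (bl j)) + gI • (∑ j, d j • RuLat.vec (bl j))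
    rw [Finset.smul_sum, ← Finset.sum_sub_distrib, ← Finset.sum_add_distrib]
    refine Finset.sum_congr rfl fun j _ => ?_
    rw [smul_smul, ← sub_smul, ← add_smul]
    congr 1
    conv_lhs => rw [hbd j]
    ring
  refine congrArg Multiplicative.ofAdd (QuotientAddGroup.eq.2 (mem_I.2 ⟨⟨_, hy⟩, ?_⟩))
  rw [← h1]
  abel

instance finA : Finite A := Finite.of_surjective _ bv_surjective

theorem card_A : Nat.card A ≤ 2 ^ 28 := by
  have h1 := Nat.card_le_card_of_surjective _ bv_surjective
  have h2 : Nat.card (Fin 28 → Bool) = 2 ^ 28 := by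
    rw [Nat.card_eq_fintype_card]
    simp
  rwa [h2] at h1

/-- **`Ru` has no element of order `29 · 13`** -/
theorem no377 (z : Ru) : orderOf z ≠ 29 * 13 := by
  intro hz
  have hfin : Finite fourRu := by
    obtain ⟨h1, h2, -⟩ := Main.main
    apply Nat.finite_of_card_ne_zero
    rw [Subgroup.card_eq_card_quotient_mul_card_subgroup (Subgroup.center fourRu), h1,
      show Nat.card (fourRu ⧸ Subgroup.center fourRu) = 145926144000 from h2]
    norm_num
  obtain ⟨g, rfl⟩ := QuotientGroup.mk'_surjective (Subgroup.center fourRu) z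
  obtain ⟨k, hk⟩ := Cfsg.Agent.H257.El.exists_lift (QuotientGroup.mk' (Subgroup.center fourRu)) hz
  set h := g ^ k with hh
  have h1 : orderOf (h ^ 13) = 29 := by
    rw [orderOf_pow_of_dvd (by norm_num) (by rw [hk]; norm_num), hk]
  have h2 : orderOf (h ^ 29) = 13 := by
    rw [orderOf_pow_of_dvd (by norm_num) (by rw [hk]; norm_num), hk]
  refine key two_quot card_A (a := rho (h ^ 13)) (b := rho (h ^ 29)) ?_ ?_ ?_ ?_ ?_
  · rw [← map_mul, ← map_mul, ((Commute.refl h).pow_pow 13 29).eq]
  · rw [← map_pow, ← h1, pow_orderOf_eq_one, map_one]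
  · refine rho_ne_one (p := 29) (by decide) (by rw [← h1, pow_orderOf_eq_one]) fun h3 => ?_
    rw [h3, orderOf_one] at h1
    norm_num at h1
  · rw [← map_pow, ← h2, pow_orderOf_eq_one, map_one]
  · refine rho_ne_one (p := 13) (by decide) (by rw [← h2, pow_orderOf_eq_one]) fun h3 => ?_
    rw [h3, orderOf_one] at h2
    norm_num at h2

end Cfsg.Agent.H257.El.RuMod

private theorem dce_c8e41c06700c : _root_.True := by
  try have : _root_.True := by simp only [_root_.Cfsg.Spor.ruI.eq_1]
  exact _root_.True.intro
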